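import Mathlib

/-!
# Principal parts in a field

For a space with a subring of a field attached to each point, a datum assigns field elements to points
so that nearby values differ by local elements; it is solvable when one element differs from all values
by local elements. For an integral scheme this is the vanishing of `H¹` of the structure sheaf.
-/

set_option autoImplicit false
set_option linter.style.haveILetI false
set_option linter.unusedSectionVars false

universe u v

open Filter
open scoped Topology

namespace Groth.Agent.Sol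

variable {K : Type u} [Field K] {α β : Type v} [TopologicalSpace α] [TopologicalSpace β]

/-- Nearby values differ by local elements. -/
def IsDatum (R : α → Subring K) (g : α → K) : Prop := ∀ x, ∀ᶠ y in 𝓝 x, g x - g y ∈ R y

/-- Every datum is solvable. -/
def Sol (R : α → Subring K) : Prop := ∀ g, IsDatum R g → ∃ h, ∀ x, h - g x ∈ R x

/-- Membership in the local rings is open. -/
def OpenMem (R : α → Subring K) : Prop := ∀ x, ∀ c ∈ R x, ∀ᶠ y in 𝓝 x, c ∈ R y

/-- Solvability over a set of points, for data defined on the whole space. -/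
def SolOn (R : α → Subring K) (U : Set α) : Prop :=
  ∀ g, IsDatum R g → ∃ h, ∀ x ∈ U, h - g x ∈ R x

theorem Sol.map {L : Type u} [Field L] (e : K ≃+* L) {R : α → Subring K} (h : Sol R) {R' : α → Subring L}
    (hR : ∀ x c, c ∈ R x ↔ e c ∈ R' x) : Sol R' := by
  intro g hg
  obtain ⟨a, ha⟩ := h (fun x => e.symm (g x)) fun x => (hg x).mono fun y hy =>
    (hR y _).2 (by rw [map_sub, e.apply_symm_apply, e.apply_symm_apply]; exact hy)
  refine ⟨e a, fun x => ?_⟩
  have h1 := (hR x _).1 (ha x)
  rwa [map_sub, e.apply_symm_apply] at h1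

variable {R : α → Subring K} {R' : β → Subring K} (π : β → α)

/-- Solvability descends along maps whose fibre intersections are the local rings. -/
theorem Sol.push (hπ : Continuous π) (hle : ∀ y, R (π y) ≤ R' y)
    (hinf : ∀ x c, (∀ y, π y = x → c ∈ R' y) → c ∈ R x) (h : Sol R') : Sol R := by
  intro g hg
  obtain ⟨a, ha⟩ := h (g ∘ π) fun y => ((hπ.tendsto y).eventually (hg (π y))).mono fun z hz => hle z hz
  refine ⟨a, fun x => hinf x _ ?_⟩
  rintro y rfl
  exact ha y

theorem IsDatum.isOpen_good {g : α → K} (hg : IsDatum R g) (ho : OpenMem R) (a : K) :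
    IsOpen {x | a - g x ∈ R x} := by
  rw [isOpen_iff_mem_nhds]
  intro x hx
  filter_upwards [hg x, ho x _ hx] with y h1 h2
  have : a - g y = (a - g x) + (g x - g y) := by ring
  exact show a - g y ∈ R y by rw [this]; exact add_mem h2 h1

/-- Solvability ascends along closed maps with locally solvable data. -/
theorem Sol.pull (hcl : IsClosedMap π) (ho : OpenMem R') (hle : ∀ y, R (π y) ≤ R' y)
    (hinf : ∀ x c, (∀ y, π y = x → c ∈ R' y) → c ∈ R x) (h : Sol R)
    (hloc : ∀ x, SolOn R' (π ⁻¹' {x})) : Sol R' := by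
  intro g hg
  choose a ha using fun x => hloc x g hg
  have key : ∀ x, ∀ᶠ z in 𝓝 x, ∀ y, π y = z → a x - g y ∈ R' y := by
    intro x
    have hc := hcl _ (hg.isOpen_good ho (a x)).isClosed_compl
    have hx : x ∉ π '' {y | a x - g y ∈ R' y}ᶜ := by
      rintro ⟨y, hy, rfl⟩
      exact hy (ha _ y rfl)
    filter_upwards [hc.isOpen_compl.mem_nhds hx] with z hz y hy
    by_contra hn
    exact hz ⟨y, hn, hy⟩
  obtain ⟨b, hb⟩ := h a fun x => (key x).mono fun z hz => hinf z _ fun y hy => by
    have : a x - a z = (a x - g y) - (a z - g y) := by ring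
    rw [this]
    exact sub_mem (hz y hy) (ha z y hy)
  refine ⟨b, fun y => ?_⟩
  have : b - g y = (b - a (π y)) + (a (π y) - g y) := by ring
  rw [this]
  exact add_mem (hle y (hb (π y))) (ha _ y rfl)

theorem Sol.solOn (h : Sol R) (U : Set α) : SolOn R U := fun g hg => (h g hg).imp fun _ ha x _ => ha x

theorem SolOn.mono {U V : Set α} (h : SolOn R V) (hUV : U ⊆ V) : SolOn R U :=
  fun g hg => (h g hg).imp fun _ ha x hx => ha x (hUV hx)

theorem sol_iff_solOn_univ : Sol R ↔ SolOn R Set.univ :=
  ⟨fun h => h.solOn _, fun h g hg => (h g hg).imp fun _ ha x => ha x trivial⟩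

/-- Two pieces whose common elements are differences. -/
theorem SolOn.union {U V : Set α} (hU : SolOn R U) (hV : SolOn R V)
    (h : ∀ c, (∀ x ∈ U ∩ V, c ∈ R x) → ∃ a b, (∀ x ∈ U, a ∈ R x) ∧ (∀ x ∈ V, b ∈ R x) ∧ c = a - b) :
    SolOn R (U ∪ V) := by
  intro g hg
  obtain ⟨p, hp⟩ := hU g hg
  obtain ⟨q, hq⟩ := hV g hg
  obtain ⟨a, b, ha, hb, hab⟩ := h (p - q) fun x hx => by
    have : p - q = (p - g x) - (q - g x) := by ring
    rw [this]
    exact sub_mem (hp x hx.1) (hq x hx.2)
  refine ⟨p - a, ?_⟩
  rintro x (hx | hx)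
  · rw [sub_right_comm]
    exact sub_mem (hp x hx) (ha x hx)
  · have : p - a - g x = (q - g x) - b := by linear_combination hab
    rw [this]
    exact sub_mem (hq x hx) (hb x hx)

end Groth.Agent.Sol
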