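import Mathlib
import Groth.Agent.Sol.Basic
import Groth.Agent.FibrePP.Basic

/-!
# Principal parts on an integral scheme
-/

set_option autoImplicit false
set_option linter.style.haveILetI false
set_option linter.unusedSectionVars false
set_option backward.isDefEq.respectTransparency false
set_option backward.isDefEq.respectTransparency.types false
set_option maxHeartbeats 400000

universe u

open CategoryTheory AlgebraicGeometry TopologicalSpace Filter
open scoped Topology
open Groth.Agent.FibrePP (O)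

noncomputable section

namespace Groth.Agent.Sol

variable {X : Scheme.{u}} [IsIntegral X]

/-- Evaluation of sections in the function field. -/
def toFF (U : X.Opens) {x : X} (hx : x ∈ U) : Γ(X, U) →+* X.functionField :=
  (X.presheaf.germ U (genericPoint X) ((genericPoint_specializes x).mem_open U.isOpen hx)).hom

theorem toFF_eq (U : X.Opens) {x : X} (hx : x ∈ U) (s : Γ(X, U)) :
    toFF U hx s = algebraMap (X.presheaf.stalk x) X.functionField (X.presheaf.germ U x hx s) :=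
  (TopCat.Presheaf.germ_stalkSpecializes_apply X.presheaf hx (genericPoint_specializes x) s).symm

theorem toFF_mem (U : X.Opens) {x y : X} (hx : x ∈ U) (hy : y ∈ U) (s : Γ(X, U)) : toFF U hx s ∈ O y :=
  ⟨_, (toFF_eq U hy s).symm⟩

theorem toFF_res {U V : X.Opens} (h : V ≤ U) {x : X} (hx : x ∈ V) (s : Γ(X, U)) :
    toFF V hx (X.presheaf.map (homOfLE h).op s) = toFF U (h hx) s :=
  X.presheaf.germ_res_apply _ _ _ s

theorem openMem_O : OpenMem (O (X := X)) := by
  rintro x c ⟨r, rfl⟩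
  obtain ⟨U, hxU, s, rfl⟩ := X.presheaf.exists_germ_eq (x := x) r
  filter_upwards [U.isOpen.mem_nhds hxU] with y hy
  rw [← toFF_eq U hxU s]
  exact toFF_mem U hxU hy s

theorem toFF_injective (U : X.Opens) {x : X} (hx : x ∈ U) : Function.Injective (toFF U hx) :=
  germ_injective_of_isIntegral X (genericPoint X) _

/-- An element in all local rings on an open set is a section. -/
theorem exists_section_of_mem (U : X.Opens) {x₀ : X} (hx₀ : x₀ ∈ U) (c : X.functionField)
    (hc : ∀ x ∈ U, c ∈ O x) : ∃ s : Γ(X, U), toFF U hx₀ s = c := by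
  have hloc : ∀ x : U, ∃ (W : X.Opens) (_ : x.1 ∈ W) (_ : W ≤ U) (s : Γ(X, W)), toFF W (by assumption) s = c := by
    rintro ⟨x, hx⟩
    obtain ⟨r, hr⟩ := hc x hx
    obtain ⟨W₀, hxW₀, s₀, rfl⟩ := X.presheaf.exists_germ_eq (x := x) r
    refine ⟨W₀ ⊓ U, ⟨hxW₀, hx⟩, inf_le_right, X.presheaf.map (homOfLE inf_le_left).op s₀, ?_⟩
    rw [toFF_res, toFF_eq, hr]
  choose W hxW hW s hs using hloc
  have hξW : ∀ p, genericPoint X ∈ W p := fun p => (genericPoint_specializes p.1).mem_open (W p).isOpen (hxW p)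
  obtain ⟨S, hS, -⟩ := TopCat.Sheaf.existsUnique_gluing' X.sheaf W U (fun p => homOfLE (hW p))
    (fun p hp => Opens.mem_iSup.2 ⟨⟨p, hp⟩, hxW ⟨p, hp⟩⟩) s fun p q => by
      apply toFF_injective (W p ⊓ W q) (x := genericPoint X) ⟨hξW p, hξW q⟩
      exact (((toFF_res (inf_le_left : W p ⊓ W q ≤ W p) (x := genericPoint X) ⟨hξW p, hξW q⟩ (s p))).trans (hs p)).trans
        (((toFF_res (inf_le_right : W p ⊓ W q ≤ W q) (x := genericPoint X) ⟨hξW p, hξW q⟩ (s q))).trans (hs q)).symm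
  refine ⟨S, ?_⟩
  rw [← hs ⟨x₀, hx₀⟩, ← hS ⟨x₀, hx₀⟩]
  exact (toFF_res (hW ⟨x₀, hx₀⟩) (hxW ⟨x₀, hx₀⟩) S).symm

/-- Every datum is solvable on an affine open. -/
theorem solOn_affine {U : X.Opens} (hU : IsAffineOpen U) : SolOn (O (X := X)) (U : Set X) := by
  classical
  intro g hg
  rcases (U : Set X).eq_empty_or_nonempty with he | ⟨x₀, hx₀⟩
  · exact ⟨0, fun x hx => absurd hx (he ▸ Set.notMem_empty x)⟩
  have hloc : ∀ x : U, ∃ f : Γ(X, U), x.1 ∈ X.basicOpen f ∧ ∀ y ∈ X.basicOpen f, g x.1 - g y ∈ O y := by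
    intro x
    obtain ⟨W, hW, hWo, hxW⟩ := eventually_nhds_iff.1 (hg x.1)
    obtain ⟨f, hf, hxf⟩ := hU.exists_basicOpen_le (V := ⟨W, hWo⟩) (⟨x.1, hxW⟩ : (⟨W, hWo⟩ : X.Opens)) x.2
    exact ⟨f, hxf, fun y hy => hW y (hf hy)⟩
  choose f hf hgood using hloc
  obtain ⟨t, ht⟩ := hU.isCompact.elim_finite_subcover (fun x : U => (X.basicOpen (f x) : Set X))
    (fun x => (X.basicOpen (f x)).isOpen) fun x hx => Set.mem_iUnion.2 ⟨⟨x, hx⟩, hf _⟩
  -- clear denominators of the differences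
  have hN : ∀ i k : U, ∃ N : ℕ, ∀ n, N ≤ n → ∃ c : Γ(X, U),
      (toFF U hx₀ (f i) * toFF U hx₀ (f k)) ^ n * (g k.1 - g i.1) = toFF U hx₀ c := by
    intro i k
    by_cases hne : ((X.basicOpen (f i * f k) : X.Opens) : Set X).Nonempty
    · obtain ⟨z, hz⟩ := hne
      obtain ⟨s, hs⟩ := exists_section_of_mem (X.basicOpen (f i * f k)) hz (g k.1 - g i.1) fun y hy => by
        rw [Scheme.basicOpen_mul] at hy
        have e : g k.1 - g i.1 = (g k.1 - g y) - (g i.1 - g y) := by ring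
        rw [e]
        exact sub_mem (hgood k y hy.2) (hgood i y hy.1)
      haveI := hU.isLocalization_basicOpen (f i * f k)
      obtain ⟨n, c, hc⟩ := IsLocalization.Away.surj (f i * f k) s
      refine ⟨n, fun m hm => ⟨(f i * f k) ^ (m - n) * c, ?_⟩⟩
      have h1 := congrArg (toFF (X.basicOpen (f i * f k)) hz) hc
      simp only [map_mul, map_pow, RingHom.algebraMap_toAlgebra] at h1
      erw [toFF_res (X.basicOpen_le _) hz, toFF_res (X.basicOpen_le _) hz, toFF_res (X.basicOpen_le _) hz] at h1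
      rw [hs] at h1
      rw [map_mul, map_pow, map_mul, show m = m - n + n by omega, pow_add]
      simp only [add_tsub_cancel_right]
      calc (toFF U hx₀ (f i) * toFF U hx₀ (f k)) ^ (m - n) * (toFF U hx₀ (f i) * toFF U hx₀ (f k)) ^ n *
            (g k.1 - g i.1)
          = (toFF U hx₀ (f i) * toFF U hx₀ (f k)) ^ (m - n) *
              ((g k.1 - g i.1) * (toFF U hx₀ (f i) * toFF U hx₀ (f k)) ^ n) := by ring
        _ = _ := by rw [show (g k.1 - g i.1) * (toFF U hx₀ (f i) * toFF U hx₀ (f k)) ^ n = toFF U hx₀ c from h1]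
    · refine ⟨1, fun n hn => ⟨0, ?_⟩⟩
      have h0 : f i * f k = 0 := (AlgebraicGeometry.basicOpen_eq_bot_iff _).1
        (Opens.ext (Set.not_nonempty_iff_eq_empty.1 hne))
      rw [← map_mul, h0, map_zero, zero_pow (by omega), zero_mul]
  choose N hN using hN
  let n := (t ×ˢ t).sup fun p => N p.1 p.2
  have hspan : Ideal.span ((fun x : U => f x) '' {x | x ∈ t}) = ⊤ := by
    rw [← hU.self_le_iSup_basicOpen_iff]
    intro x hx
    obtain ⟨i, hi, hxi⟩ := Set.mem_iUnion₂.1 (ht hx)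
    exact Opens.mem_iSup.2 ⟨⟨f i, i, hi, rfl⟩, hxi⟩
  have hspan' := Ideal.span_pow_eq_top _ hspan n
  rw [Set.image_image] at hspan'
  have key : ∀ a ∈ Ideal.span ((fun x : U => f x ^ n) '' {x | x ∈ t}),
      ∃ G : X.functionField, ∀ i ∈ t, ∀ y ∈ X.basicOpen (f i), G - toFF U hx₀ a * g i.1 ∈ O y := by
    intro a ha
    induction ha using Submodule.span_induction with
    | mem a ha =>
      obtain ⟨k, hk, rfl⟩ := ha
      refine ⟨toFF U hx₀ (f k ^ n) * g k.1, fun i hi y hy => ?_⟩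
      obtain ⟨c, hc⟩ := hN i k n (Finset.le_sup (f := fun p : U × U => N p.1 p.2)
        (Finset.mem_product.2 ⟨hi, hk⟩ : (i, k) ∈ t ×ˢ t))
      have hyU : y ∈ U := X.basicOpen_le _ hy
      obtain ⟨v, hv⟩ := (((X.mem_basicOpen (f i) y hyU).1 hy).pow n).exists_right_inv
      obtain ⟨w, hw⟩ : ∃ w ∈ O y, toFF U hx₀ (f i) ^ n * w = 1 := ⟨_, ⟨v, rfl⟩, by
        rw [← map_pow, show toFF U hx₀ (f i ^ n) = toFF U hyU (f i ^ n) from rfl, toFF_eq, ← map_mul, map_pow, hv,
          map_one]⟩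
      have e : toFF U hx₀ (f k ^ n) * g k.1 - toFF U hx₀ (f k ^ n) * g i.1 = toFF U hx₀ c * w := by
        rw [map_pow]
        linear_combination (toFF U hx₀ (f k) ^ n * (g k.1 - g i.1)) * hw.2.symm + w * hc
      rw [e]
      exact mul_mem (toFF_mem U hx₀ hyU c) hw.1
    | zero => exact ⟨0, fun i _ y _ => by rw [map_zero, zero_mul, sub_zero]; exact zero_mem _⟩
    | add a b _ _ iha ihb =>
      obtain ⟨G, hG⟩ := iha
      obtain ⟨G', hG'⟩ := ihb
      refine ⟨G + G', fun i hi y hy => ?_⟩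
      have e : G + G' - toFF U hx₀ (a + b) * g i.1 = (G - toFF U hx₀ a * g i.1) + (G' - toFF U hx₀ b * g i.1) := by
        rw [map_add]; ring
      rw [e]
      exact add_mem (hG i hi y hy) (hG' i hi y hy)
    | smul r a _ iha =>
      obtain ⟨G, hG⟩ := iha
      refine ⟨toFF U hx₀ r * G, fun i hi y hy => ?_⟩
      rw [smul_eq_mul, map_mul, mul_assoc, ← mul_sub]
      exact mul_mem (toFF_mem U hx₀ (X.basicOpen_le _ hy) r) (hG i hi y hy)
  obtain ⟨G, hG⟩ := key 1 (by rw [hspan']; trivial)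
  refine ⟨G, fun x hx => ?_⟩
  obtain ⟨i, hi, hxi⟩ := Set.mem_iUnion₂.1 (ht hx)
  have h1 := hG i hi x hxi
  rw [map_one, one_mul] at h1
  have e : G - g x = (G - g i.1) + (g i.1 - g x) := by ring
  rw [e]
  exact add_mem h1 (hgood i x hxi)

end Groth.Agent.Sol
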