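import Mathlib
import Groth.Agent.Sol.Scheme
import Groth.Agent.QCoh.GodHH
import Groth.Agent.QCoh.Bound
import Groth.Agent.QCoh.VanIdeal

/-!
# Principal parts and the first cohomology of the structure sheaf
-/

set_option autoImplicit false
set_option linter.style.haveILetI false
set_option linter.unusedSectionVars false
set_option backward.isDefEq.respectTransparency false
set_option backward.isDefEq.respectTransparency.types false
set_option maxHeartbeats 400000

universe u

open CategoryTheory CategoryTheory.Limits AlgebraicGeometry TopologicalSpace Filter Opposite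
open scoped Topology
open Groth.Agent.FibrePP (O)
open Groth.Agent.QCoh (God godQ godπ toGod godVal germM stk godSES)

noncomputable section

namespace Groth.Agent.Sol

variable {X : Scheme.{u}}

/-- Global sections of the first Godement quotient lift exactly when `H¹` vanishes. -/
theorem subsingleton_HH_one_iff (M : X.Modules) :
    Subsingleton (Coh.HH X M 1) ↔ Function.Surjective ((godπ M 0).app (⊤ : X.Opens)) := by
  have hS := QCoh.toAb_shortExact (QCoh.godSES_shortExact M 0)
  have hsurj := QCoh.Ab.connecting_surjective (X := X.toPresheafedSpace.carrier) hS 0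
    (QCoh.subsingleton_HH_God (godQ M 0) 0)
  constructor
  · intro h q
    obtain ⟨y, hy⟩ := (QCoh.Ab.connecting_eq_zero_iff (X := X.toPresheafedSpace.carrier) hS 0
      ((Sheaf.H.equiv₀ (Coh.toAb (godQ M 1)) isTerminalTop).symm q)).1 (Subsingleton.elim (α := Coh.HH X M 1) _ _)
    refine ⟨Sheaf.H.equiv₀ (Coh.toAb (God (godQ M 0))) isTerminalTop y, ?_⟩
    refine (Sheaf.H.equiv₀_naturality isTerminalTop ((godSES M 0).map (QCoh.toAbFunctor X)).g y).trans ?_
    exact (congrArg (Sheaf.H.equiv₀ (Coh.toAb (godQ M 1)) isTerminalTop) hy).trans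
      ((Sheaf.H.equiv₀ (Coh.toAb (godQ M 1)) isTerminalTop).apply_symm_apply q)
  · intro h
    refine subsingleton_of_forall_eq 0 fun z => ?_
    obtain ⟨y, rfl⟩ := hsurj z
    obtain ⟨s, hs⟩ := h (Sheaf.H.equiv₀ (Coh.toAb (godQ M 1)) isTerminalTop y)
    refine (QCoh.Ab.connecting_eq_zero_iff (X := X.toPresheafedSpace.carrier) hS 0 y).2
      ⟨(Sheaf.H.equiv₀ (Coh.toAb (God (godQ M 0))) isTerminalTop).symm s,
        (Sheaf.H.equiv₀ (Coh.toAb (godQ M 1)) isTerminalTop).injective ?_⟩
    refine (Sheaf.H.equiv₀_naturality isTerminalTop ((godSES M 0).map (QCoh.toAbFunctor X)).g _).symm.trans ?_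
    exact (congrArg _ ((Sheaf.H.equiv₀ (Coh.toAb (God (godQ M 0))) isTerminalTop).apply_symm_apply s)).trans hs

variable [IsIntegral X]

local notation "M₀" => Coh.structureModule X

/-- Germs of functions in the function field. -/
def val (x : X) : stk M₀ x →+ X.functionField :=
  KFlatLib.descP (P := CohB1.toPMod M₀) (fun U hx =>
    { toFun := fun s : Γ(X, U) => toFF U hx s
      map_zero' := map_zero (toFF U hx)
      map_add' := fun a b => map_add (toFF U hx) a b })
    fun U V i hx s => toFF_res i.le hx s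

theorem val_germM {U : X.Opens} {x : X} (hx : x ∈ U) (s : Γ(X, U)) :
    val x (germM M₀ U hx s) = toFF U hx s :=
  KFlatLib.descP_germP (P := CohB1.toPMod M₀) _ _ U hx s

theorem val_mem (x : X) (m : stk M₀ x) : val x m ∈ O x := by
  obtain ⟨U, hx, s, rfl⟩ := QCoh.exists_germM M₀ m
  rw [val_germM hx s]
  exact toFF_mem U hx hx s

theorem val_injective (x : X) : Function.Injective (val x) := by
  refine (injective_iff_map_eq_zero (val x)).2 fun m hm => ?_
  obtain ⟨U, hx, s, rfl⟩ := QCoh.exists_germM M₀ m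
  rw [val_germM hx s] at hm
  rw [(toFF_injective U hx) (hm.trans (map_zero (toFF U hx)).symm)]
  exact map_zero _

theorem exists_val (x : X) {c : X.functionField} (hc : c ∈ O x) : ∃ m : stk M₀ x, val x m = c := by
  obtain ⟨r, rfl⟩ := hc
  obtain ⟨U, hx, s, rfl⟩ := X.presheaf.exists_germ_eq (x := x) r
  exact ⟨germM M₀ U hx s, (val_germM hx s).trans (toFF_eq U hx s)⟩

theorem app_map {M N : X.Modules} (φ : M ⟶ N) {U V : X.Opens} (i : V ⟶ U) (s : Γ(M, U)) :
    φ.app V (M.presheaf.map i.op s) = N.presheaf.map i.op (φ.app U s) :=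
  ConcreteCategory.congr_hom (φ.mapPresheaf.naturality i.op) s

theorem hh_of_sol (h : Sol (O (X := X))) : Subsingleton (Coh.HH X M₀ 1) := by
  rw [subsingleton_HH_one_iff]
  intro q
  have hlift : ∀ x : X, ∃ (W : X.Opens) (_ : x ∈ W) (s : Γ(God (godQ M₀ 0), W)),
      (godπ M₀ 0).app W s = (godQ M₀ 1).presheaf.map (homOfLE le_top).op q := by
    intro x
    obtain ⟨W, hW, hxW, -⟩ := exists_isAffineOpen_mem_and_subset (x := x) (U := ⊤) trivial
    exact ⟨W, hxW, QCoh.godπ_app_surjective (QCoh.subsingleton_HU_of_isAffineOpen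
      QCoh.isQCoh_structureModule hW 0) _⟩
  choose W hxW s hs using hlift
  let γ : ∀ p y, y ∈ W p → X.functionField := fun p y hy => val y (godVal (M := M₀) (s p) y hy)
  have hdiff : ∀ p p', ∃ c : X.functionField, ∀ y (hy : y ∈ W p) (hy' : y ∈ W p'), γ p y hy - γ p' y hy' = c := by
    intro p p'
    have h0 : (godπ M₀ 0).app (W p ⊓ W p') ((God (godQ M₀ 0)).presheaf.map (homOfLE inf_le_left).op (s p) -
        (God (godQ M₀ 0)).presheaf.map (homOfLE inf_le_right).op (s p')) = 0 := by
      rw [map_sub, app_map, app_map, hs, hs, ← CategoryTheory.comp_apply, ← Functor.map_comp,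
        ← CategoryTheory.comp_apply, ← Functor.map_comp]
      exact sub_eq_zero.2 rfl
    obtain ⟨a, ha⟩ := QCoh.exists_of_godπ_app_eq_zero 0 _ h0
    have hmem : genericPoint X ∈ W p ⊓ W p' :=
      ⟨(genericPoint_specializes p).mem_open (W p).isOpen (hxW p),
        (genericPoint_specializes p').mem_open (W p').isOpen (hxW p')⟩
    refine ⟨toFF (W p ⊓ W p') hmem a, fun y hy hy' => ?_⟩
    have h1 := congrArg (fun z => val y (godVal (M := M₀) (U := W p ⊓ W p') z y ⟨hy, hy'⟩)) ha
    refine Eq.trans ?_ (h1.symm.trans (val_germM (U := W p ⊓ W p') ⟨hy, hy'⟩ a))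
    exact (map_sub (val y) _ _).symm
  choose c hc using hdiff
  let p₀ := genericPoint X
  have hcc : ∀ p p' p'', c p p' + c p' p'' = c p p'' := by
    intro p p' p''
    have hm : ∀ r, genericPoint X ∈ W r := fun r => (genericPoint_specializes r).mem_open (W r).isOpen (hxW r)
    rw [← hc p p' _ (hm p) (hm p'), ← hc p' p'' _ (hm p') (hm p''), ← hc p p'' _ (hm p) (hm p'')]
    abel
  obtain ⟨a, ha⟩ := h (fun x => c x p₀) fun x => by
    filter_upwards [(W x).isOpen.mem_nhds (hxW x)] with y hy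
    rw [← hcc x y p₀, add_sub_cancel_right, ← hc x y y hy (hxW y)]
    exact sub_mem (val_mem y _) (val_mem y _)
  have hval : ∀ y, γ y y (hxW y) - (c y p₀ - a) ∈ O y := fun y => by
    rw [sub_sub_eq_add_sub, add_sub_assoc]
    exact add_mem (val_mem y _) (ha y)
  choose e he using fun y => exists_val y (hval y)
  refine ⟨(fun y : (⊤ : X.Opens) => e y.1 : ∀ y : (⊤ : X.Opens), stk M₀ y.1), ?_⟩
  refine TopCat.Sheaf.eq_of_locally_eq' (⟨(godQ M₀ 1).presheaf, (godQ M₀ 1).isSheaf⟩ :
    TopCat.Sheaf AddCommGrpCat.{u} X.toPresheafedSpace.carrier) W ⊤ (fun p => homOfLE le_top)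
    (fun p _ => Opens.mem_iSup.2 ⟨p, hxW p⟩) _ _ fun p => ?_
  refine Eq.trans ?_ (hs p)
  erw [← app_map]
  -- the difference is a section of the structure sheaf
  obtain ⟨t, ht⟩ := exists_section_of_mem (W p) (hxW p) (c p p₀ - a) fun y hy => by
    rw [← hcc p y p₀, add_sub_assoc, ← hc p y y hy (hxW y)]
    exact add_mem (sub_mem (val_mem y _) (val_mem y _)) (by simpa using neg_mem (ha y))
  have hdecomp : (God (godQ M₀ 0)).presheaf.map (homOfLE le_top : W p ⟶ ⊤).op
      (show Γ(God (godQ M₀ 0), ⊤) from fun y : (⊤ : X.Opens) => e y.1) =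
      s p - (toGod (godQ M₀ 0)).app (W p) (show Γ(godQ M₀ 0, W p) from t) := by
    refine QCoh.god_ext fun y hy => val_injective y ?_
    show val y (e y) = val y (godVal (M := M₀) (s p) y hy - germM M₀ (W p) hy t)
    rw [map_sub, val_germM hy t, he y]
    rw [show toFF (W p) hy t = toFF (W p) (hxW p) t from rfl, ht, ← hcc p y p₀, ← hc p y y hy (hxW y)]
    show _ = γ p y hy - _
    ring
  erw [hdecomp, map_sub]
  rw [show (godπ M₀ 0).app (W p) ((toGod (godQ M₀ 0)).app (W p) (show Γ(godQ M₀ 0, W p) from t)) = 0 from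
    QCoh.app_g_f (S := godSES M₀ 0) (W p) _, sub_zero]

theorem sol_of_hh (h : Subsingleton (Coh.HH X M₀ 1)) : Sol (O (X := X)) := by
  classical
  rw [subsingleton_HH_one_iff] at h
  intro g hg
  have hloc : ∀ x : X, ∃ W : X.Opens, x ∈ W ∧ ∀ y ∈ W, g x - g y ∈ O y := fun x => by
    obtain ⟨W, hW, hWo, hxW⟩ := eventually_nhds_iff.1 (hg x)
    exact ⟨⟨W, hWo⟩, hxW, fun y hy => hW y hy⟩
  choose W hxW hW using hloc
  choose m hm using fun p y (hy : y ∈ W p) => exists_val y (hW p y hy)
  let s : ∀ p, Γ(God (godQ M₀ 0), W p) := fun p => (fun y : W p => m p y.1 y.2 : ∀ y : W p, stk M₀ y.1)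
  have hcompat : TopCat.Presheaf.IsCompatible (godQ M₀ 1).presheaf W fun p => (godπ M₀ 0).app (W p) (s p) := by
    intro p p'
    refine Eq.trans (app_map _ _ _).symm (Eq.trans ?_ (app_map _ _ _))
    rw [← sub_eq_zero, ← map_sub]
    have hmem : genericPoint X ∈ W p ⊓ W p' :=
      ⟨(genericPoint_specializes p).mem_open (W p).isOpen (hxW p),
        (genericPoint_specializes p').mem_open (W p').isOpen (hxW p')⟩
    obtain ⟨t, ht⟩ := exists_section_of_mem (W p ⊓ W p') hmem (g p - g p') fun y hy => by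
      rw [← sub_sub_sub_cancel_right (g p) (g p') (g y)]
      exact sub_mem (hW p y hy.1) (hW p' y hy.2)
    refine Eq.trans (congrArg _ ?_) (QCoh.app_g_f (S := godSES M₀ 0) (W p ⊓ W p') (show Γ(godQ M₀ 0, W p ⊓ W p') from t))
    refine QCoh.god_ext fun y hy => val_injective y ?_
    show val y (m p y hy.1 - m p' y hy.2) = val y (germM M₀ (W p ⊓ W p') hy t)
    rw [map_sub, val_germM hy t, hm, hm, show toFF (W p ⊓ W p') hy t = toFF (W p ⊓ W p') hmem t from rfl, ht,
      sub_sub_sub_cancel_right]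
  obtain ⟨q, hq, -⟩ := TopCat.Sheaf.existsUnique_gluing' (⟨(godQ M₀ 1).presheaf, (godQ M₀ 1).isSheaf⟩ :
    TopCat.Sheaf AddCommGrpCat.{u} X.toPresheafedSpace.carrier) W ⊤ (fun p => homOfLE le_top)
    (fun p _ => Opens.mem_iSup.2 ⟨p, hxW p⟩) _ hcompat
  obtain ⟨e, he⟩ := h q
  have hker : ∀ p, ∃ d : X.functionField, ∀ y (hy : y ∈ W p),
      val y (godVal (M := M₀) e y trivial) + g y = d := by
    intro p
    have h0 : (godπ M₀ 0).app (W p) (s p - (God (godQ M₀ 0)).presheaf.map (homOfLE le_top : W p ⟶ ⊤).op e) = 0 := by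
      rw [map_sub, app_map, he]
      exact sub_eq_zero.2 (hq p).symm
    obtain ⟨t, ht⟩ := QCoh.exists_of_godπ_app_eq_zero 0 _ h0
    refine ⟨g p - toFF (W p) (hxW p) t, fun y hy => ?_⟩
    have h1 := congrArg (fun z => val y (godVal (M := M₀) z y hy)) ht
    have h2 : val y (m p y hy) - val y (godVal (M := M₀) e y trivial) = toFF (W p) hy t :=
      (map_sub (val y) _ _).symm.trans (h1.symm.trans (val_germM hy t))
    rw [hm] at h2
    rw [show toFF (W p) (hxW p) t = toFF (W p) hy t from rfl]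
    linear_combination -h2
  choose d hd using hker
  refine ⟨d (genericPoint X), fun x => ?_⟩
  have hm' : ∀ r, genericPoint X ∈ W r := fun r => (genericPoint_specializes r).mem_open (W r).isOpen (hxW r)
  rw [← hd (genericPoint X) _ (hm' _), hd x _ (hm' x), ← hd x x (hxW x), add_sub_cancel_right]
  exact val_mem x _

end Groth.Agent.Sol
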