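import Mathlib
import Groth.Agent.Sol.HH
import Groth.Agent.NormSeq.Main

/-!
# Principal parts under birational morphisms
-/

set_option autoImplicit false
set_option linter.style.haveILetI false
set_option linter.unusedSectionVars false
set_option backward.isDefEq.respectTransparency false
set_option backward.isDefEq.respectTransparency.types false
set_option maxHeartbeats 400000

universe u

open CategoryTheory CategoryTheory.Limits AlgebraicGeometry TopologicalSpace Filter IsLocalRing
open scoped Topology
open Groth.Agent.FibrePP (O)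
open Groth.Agent.NormSeq (Model locRing)

noncomputable section

namespace Groth.Agent.Sol

variable {X : Scheme.{u}} [IsIntegral X] (M : Model X)

theorem mem_locRing_iff (w : M.Z) (c : X.functionField) : c ∈ locRing M w ↔ M.ψ c ∈ O w := by
  have e : ∀ a, M.ψ (M.toKHom w a) = algebraMap (M.Z.presheaf.stalk w) M.Z.functionField a := fun a => by
    show (M.toKHom w ≫ M.ψ) a = _
    rw [Model.toKHom, Category.assoc, IsIso.inv_hom_id, Category.comp_id]
    rfl
  constructor
  · rintro ⟨a, rfl⟩; exact ⟨a, (e a).symm⟩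
  · rintro ⟨a, ha⟩; exact ⟨a, (ConcreteCategory.bijective_of_isIso M.ψ).1 ((e a).trans ha)⟩

/-- Solvability on a model. -/
theorem sol_locRing_iff : Sol (locRing M) ↔ Sol (O (X := M.Z)) := by
  let e : X.functionField ≃+* M.Z.functionField := (asIso M.ψ).commRingCatIsoToRingEquiv
  refine ⟨fun h => h.map e fun w c => mem_locRing_iff M w c, fun h => h.map e.symm fun w c => ?_⟩
  rw [mem_locRing_iff]
  show _ ↔ e (e.symm c) ∈ _
  rw [e.apply_symm_apply]

theorem openMem_locRing : OpenMem (locRing M) := fun w c hc =>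
  (openMem_O w _ ((mem_locRing_iff M w c).1 hc)).mono fun y hy => (mem_locRing_iff M y c).2 hy

theorem O_le (w : M.Z) : O (M.G w) ≤ locRing M w := by
  rintro c ⟨a, rfl⟩
  exact ⟨M.G.stalkMap w a, congr($(M.stalkMap_toK w) a)⟩

theorem O_eq (w : M.Z) [IsIso (M.G.stalkMap w)] : O (M.G w) = locRing M w := by
  refine le_antisymm (O_le M w) ?_
  rintro c ⟨a, rfl⟩
  obtain ⟨b, rfl⟩ := (ConcreteCategory.bijective_of_isIso (M.G.stalkMap w)).2 a
  exact ⟨b, (congr($(M.stalkMap_toK w) b)).symm⟩

theorem isIntegrallyClosedIn_O (x : X) [IsIntegrallyClosed (X.presheaf.stalk x)] :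
    IsIntegrallyClosedIn (O x) X.functionField := by
  rw [Subring.isIntegrallyClosedIn_iff]
  intro c hc
  obtain ⟨p, hp, hpc⟩ := hc
  obtain ⟨P, hP, -, hPm⟩ := Polynomial.lifts_and_degree_eq_and_monic
    (f := (algebraMap (X.presheaf.stalk x) X.functionField).rangeRestrict)
    (Polynomial.mem_lifts_of_surjective (algebraMap (X.presheaf.stalk x) X.functionField).rangeRestrict_surjective p) hp
  have h1 : Polynomial.eval₂ (algebraMap (X.presheaf.stalk x) X.functionField) c P = 0 := by
    rw [← hpc, ← hP, Polynomial.eval₂_map]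
    rfl
  obtain ⟨a, ha⟩ := IsIntegrallyClosed.isIntegral_iff.1 (⟨P, hPm, h1⟩ : IsIntegral (X.presheaf.stalk x) c)
  exact ⟨a, ha⟩

/-- Above a normal point the local rings of a proper model cut out the local ring. -/
theorem mem_O_of_forall [IsProper M.G] (x : X) [IsIntegrallyClosed (X.presheaf.stalk x)] (c : X.functionField)
    (h : ∀ w, M.G w = x → c ∈ locRing M w) : c ∈ O x := by
  by_contra hc
  haveI := isIntegrallyClosedIn_O x
  haveI : IsLocalRing (O x) := IsLocalRing.of_surjective' (algebraMap (X.presheaf.stalk x) X.functionField).rangeRestrict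
    (algebraMap (X.presheaf.stalk x) X.functionField).rangeRestrict_surjective
  let L : LocalSubring X.functionField := LocalSubring.mk (O x)
  haveI : IsIntegrallyClosedIn L.toSubring X.functionField := isIntegrallyClosedIn_O x
  obtain ⟨V, hV, hcV⟩ := L.exists_le_valuationSubring_of_isIntegrallyClosedIn hc
  obtain ⟨hle, hloc⟩ := hV
  haveI := hloc
  let i₀ : X.presheaf.stalk x ⟶ CommRingCat.of V :=
    CommRingCat.ofHom ((algebraMap (X.presheaf.stalk x) X.functionField).codRestrict V.toSubring
      fun a => hle ⟨a, rfl⟩)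
  let j : CommRingCat.of V ⟶ X.functionField := CommRingCat.ofHom V.subtype
  have hij : i₀ ≫ j = X.presheaf.stalkSpecializes (genericPoint_specializes x) := rfl
  haveI : IsLocalHom i₀.hom := by
    haveI := (algebraMap (X.presheaf.stalk x) X.functionField).rangeRestrict_surjective.isLocalHom
    have e : i₀.hom = (Subring.inclusion hle).comp (algebraMap (X.presheaf.stalk x) X.functionField).rangeRestrict := rfl
    rw [e]
    exact RingHom.isLocalHom_comp _ _
  have hvc : ValuativeCriterion.Existence M.G := by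
    have h : IsProper M.G := ‹_›
    rw [IsProper.eq_valuativeCriterion] at h
    exact h.1.1.1.existence
  obtain ⟨⟨l, hl1, hl2⟩⟩ := (hvc
    { R := V
      K := X.functionField
      i₁ := M.genHom
      i₂ := Spec.map i₀ ≫ X.fromSpecStalk x
      commSq := ⟨by
        show M.genHom ≫ M.G = Spec.map j ≫ Spec.map i₀ ≫ X.fromSpecStalk x
        rw [M.genHom_G, ← Spec.map_comp_assoc, hij, Scheme.SpecMap_stalkSpecializes_fromSpecStalk]⟩ }).exists_lift
  change Spec.map j ≫ l = M.genHom at hl1
  change l ≫ M.G = Spec.map i₀ ≫ X.fromSpecStalk x at hl2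
  let w := l (closedPoint (CommRingCat.of V))
  have hw : M.G w = x := by
    rw [← Scheme.Hom.comp_apply, hl2, Scheme.Hom.comp_apply, Spec_closedPoint, Scheme.fromSpecStalk_closedPoint]
  have hkey : Scheme.stalkClosedPointTo l ≫ j = M.toKHom w := by
    apply Spec.map_injective
    haveI : Mono (M.Z.fromSpecStalk w) := inferInstance
    rw [← cancel_mono (M.Z.fromSpecStalk w), Spec.map_comp, Category.assoc,
      Scheme.Spec_stalkClosedPointTo_fromSpecStalk, hl1, M.spec_toK]
  obtain ⟨a, ha⟩ := h w hw
  refine hcV ?_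
  rw [← ha, ← hkey]
  exact (Scheme.stalkClosedPointTo l a).2

theorem solOn_range {U : Scheme.{u}} [IsIntegral U] (f : U ⟶ X) (hf : f (genericPoint U) = genericPoint X)
    (hiso : ∀ u, IsIso (f.stalkMap u)) (h : Sol (O (X := U))) : SolOn (O (X := X)) (Set.range f) := by
  let N : Model X := { Z := U, G := f, gen := hf, bir := hiso _ }
  intro g hg
  haveI : ∀ w : N.Z, IsIso (N.G.stalkMap w) := fun w => hiso w
  obtain ⟨a, ha⟩ := (sol_locRing_iff N).2 h (fun w => g (N.G w)) fun w =>
    ((N.G.continuous.tendsto w).eventually (hg (N.G w))).mono fun y hy => O_le N y hy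
  refine ⟨a, ?_⟩
  rintro _ ⟨w, rfl⟩
  show _ ∈ O (N.G w)
  rw [O_eq N w]
  exact ha w

end Groth.Agent.Sol
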