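import Mathlib
import Groth.Agent.Sol.Model
import Groth.Agent.S1624
import Groth.Agent.PointBlow.Main
import Groth.Agent.SurfSeq.Main
import Groth.Agent.CurveBC.PicInj

/-!
# Point blow-ups of regular surfaces preserve solvability
-/

set_option autoImplicit false
set_option linter.style.haveILetI false
set_option linter.unusedSectionVars false
set_option backward.isDefEq.respectTransparency false
set_option backward.isDefEq.respectTransparency.types false
set_option maxHeartbeats 400000

universe u

open CategoryTheory CategoryTheory.Limits AlgebraicGeometry TopologicalSpace Filter IsLocalRing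
open scoped Topology
open Groth.Agent.FibrePP (O)
open Groth.Agent.NormSeq (Model locRing)
open Groth.Agent.PointBlow (pt locTo locB)

noncomputable section

namespace Groth.Agent.Sol

theorem SolOn.map {α : Type u} [TopologicalSpace α] {K L : Type u} [Field K] [Field L] (e : K ≃+* L)
    {R : α → Subring K} {R' : α → Subring L} (hR : ∀ x c, c ∈ R x ↔ e c ∈ R' x) {U : Set α} (h : SolOn R U) :
    SolOn R' U := by
  intro g hg
  obtain ⟨a, ha⟩ := h (fun x => e.symm (g x)) fun x => (hg x).mono fun y hy =>
    (hR y _).2 (by rw [map_sub, e.apply_symm_apply, e.apply_symm_apply]; exact hy)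
  refine ⟨e a, fun x hx => ?_⟩
  have h1 := (hR x _).1 (ha x hx)
  rwa [map_sub, e.apply_symm_apply] at h1

theorem solOn_locRing {X : Scheme.{u}} [IsIntegral X] (M : Model X) {U : Set M.Z}
    (h : SolOn (O (X := M.Z)) U) : SolOn (locRing M) U := by
  refine h.map (asIso M.ψ).commRingCatIsoToRingEquiv.symm fun w c => ?_
  rw [mem_locRing_iff]
  show _ ↔ (asIso M.ψ).commRingCatIsoToRingEquiv ((asIso M.ψ).commRingCatIsoToRingEquiv.symm c) ∈ _
  rw [RingEquiv.apply_symm_apply]

theorem sol_of_iso {X Y : Scheme.{u}} [IsIntegral X] [IsIntegral Y] (e : Y ≅ X) (h : Sol (O (X := X))) :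
    Sol (O (X := Y)) := by
  refine sol_iff_solOn_univ.2 ?_
  have h1 := solOn_range e.inv (genericPoint_eq_of_isOpenImmersion e.inv) (fun _ => inferInstance) h
  exact h1.mono fun y _ => ⟨e.hom y, by rw [← Scheme.Hom.comp_apply, Iso.hom_inv_id]; rfl⟩

variable {Z Y : Scheme.{u}} [IsIntegral Z] [IsIntegral Y] [IsNoetherian Z]

/-- Solvability on the local blow-up. -/
theorem solOn_fibre {y : Z} (hy : IsClosed ({y} : Set Z)) {b : Y ⟶ Z} (hb : BlowUp.IsBlowUp b (pt hy))
    [IsRegularLocalRing (Z.presheaf.stalk y)] (hdim : ringKrullDim (Z.presheaf.stalk y) = 2) :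
    SolOn (O (X := Y)) (b ⁻¹' {y}) := by
  classical
  rcases (b ⁻¹' {y} : Set Y).eq_empty_or_nonempty with he | ⟨w, hw⟩
  · exact fun g _ => ⟨0, fun x hx => absurd hx (he ▸ Set.notMem_empty x)⟩
  obtain ⟨w', -, -⟩ := PointBlow.exists_lift hy hb hw
  have hb' := PointBlow.blowUp_local hy hb
  obtain ⟨hint, -, -⟩ := (Lib.BlowUpInt.isEmpty_or_birational hb').resolve_left fun hE => hE.false w'
  haveI := hint
  haveI := fun u => PointBlow.isIso_stalkMap_loc hy hb u
  have hgen : locTo b y (genericPoint ↥(pullback b (Z.fromSpecStalk y))) = genericPoint Y := by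
    refine FibrePP.eq_genericPoint_of_dim_zero ?_
    rw [ringKrullDim_eq_of_ringEquiv (asIso ((locTo b y).stalkMap (genericPoint _))).commRingCatIsoToRingEquiv]
    exact (ringKrullDim_eq_zero_of_field (pullback b (Z.fromSpecStalk y)).functionField).le
  haveI := PointBlow.isProper_point hy hb
  have hsol : Sol (O (X := pullback b (Z.fromSpecStalk y))) := sol_of_hh
    (S1624.result (Z.presheaf.stalk y) hdim _ (locB b y) hb' _ QCoh.isQCoh_structureModule
      CurveBC.PicInj.isGloballyGenerated_structureModule)
  refine (solOn_range (locTo b y) hgen inferInstance hsol).mono fun v hv => ?_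
  obtain ⟨v', hv', -⟩ := PointBlow.exists_lift hy hb hv
  exact ⟨v', hv'⟩

/-- A point blow-up of a regular surface preserves solvability. -/
theorem sol_blowUp {y : Z} (hy : IsClosed ({y} : Set Z)) {b : Y ⟶ Z} [IsProper b] (hb : BlowUp.IsBlowUp b (pt hy))
    [IsRegularLocalRing (Z.presheaf.stalk y)] (hdim : ringKrullDim (Z.presheaf.stalk y) = 2)
    (hbir : IsIso (b.stalkMap (genericPoint Y))) (hreg : ∀ z : Z, IsRegularLocalRing (Z.presheaf.stalk z))
    (h : Sol (O (X := Z))) : Sol (O (X := Y)) := by
  let M : Model Z := { Z := Y, G := b, gen := SurfSeq.map_generic b hbir, bir := hbir }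
  haveI : IsProper M.G := ‹IsProper b›
  refine (sol_locRing_iff M).1 (Sol.pull (R := O (X := Z)) (R' := locRing M) M.G M.G.isClosedMap
    (openMem_locRing M) (O_le M) (fun z c hc => ?_) h fun z => ?_)
  · haveI := hreg z
    haveI := (S2821.result (Z.presheaf.stalk z)).1
    haveI := (S2821.result (Z.presheaf.stalk z)).2
    exact mem_O_of_forall M z c hc
  · by_cases hz : z = y
    · subst hz
      exact solOn_locRing M (solOn_fibre hy hb hdim)
    · intro g _
      rcases (M.G ⁻¹' {z} : Set M.Z).eq_empty_or_nonempty with he | ⟨w, hw⟩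
      · exact ⟨0, fun x hx => absurd hx (he ▸ Set.notMem_empty x)⟩
      · refine ⟨g w, fun x hx => ?_⟩
        change b w = z at hw
        obtain rfl : x = w := PointBlow.injective_off hy hb (fun e => hz (hx.symm.trans e)) (hx.trans hw.symm)
        rw [sub_self]
        exact zero_mem _

/-- Sequences of contractions over a regular surface preserve solvability. -/
theorem of_seq {Y X₀ : Scheme.{u}} {r : Y ⟶ X₀} (hr : Models.IsContractionSeq r) :
    ∀ [IsIntegral X₀] [IsNoetherian X₀], (∀ x : X₀, IsRegularLocalRing (X₀.presheaf.stalk x)) →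
      ∃ _ : IsIntegral Y, IsNoetherian Y ∧ (∀ y : Y, IsRegularLocalRing (Y.presheaf.stalk y)) ∧
        IsIso (r.stalkMap (genericPoint Y)) ∧ IsProper r ∧ (Sol (O (X := X₀)) → Sol (O (X := Y))) := by
  induction hr with
  | @iso Y' X' e =>
    intro _ _ hreg
    haveI : Nonempty Y' := ⟨e.inv (genericPoint X')⟩
    haveI : IsIntegral Y' := isIntegral_of_isOpenImmersion e.hom
    haveI : IsLocallyNoetherian Y' := LocallyOfFiniteType.isLocallyNoetherian e.hom
    haveI : CompactSpace Y' := QuasiCompact.compactSpace_of_compactSpace e.hom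
    refine ⟨inferInstance, {}, fun y => ?_, inferInstance, inferInstance, sol_of_iso e⟩
    haveI := hreg (e.hom y)
    exact IsRegularLocalRing.of_ringEquiv (asIso (e.hom.stalkMap y)).commRingCatIsoToRingEquiv
  | @step Y Z X₀ E ι b r hι hE hb hr ih =>
    intro _ _ hreg
    obtain ⟨hint, hN, hregZ, hrbir, hrP, hsol⟩ := ih hreg
    haveI := hint
    haveI := hN
    haveI := hrP
    obtain ⟨-, hP, y, hy, -, hyreg, hdim, hbl⟩ := hb
    haveI := hP
    haveI := hyreg
    have hne : genericPoint Z ≠ y := fun h => by
      have h2 : Order.coheight y = 2 :=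
        WithBot.coe_eq_coe.1 (((ringKrullDim_stalk_eq_coheight y).symm.trans hdim).trans (by rfl))
      have h0 : Order.coheight y = 0 := Order.coheight_eq_zero.2 fun w _ => show w ≤ y from
        h ▸ genericPoint_specializes w
      exact absurd (h2.symm.trans h0) (by decide)
    obtain ⟨hintY, -, hbiso⟩ :
        ∃ _ : IsIntegral Y, b (genericPoint Y) = genericPoint Z ∧ IsIso (b.stalkMap (genericPoint Y)) := by
      refine (Lib.BlowUpInt.isEmpty_or_birational hbl).resolve_left fun hE => ?_
      haveI := PointBlow.isIso_off hy hbl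
      exact hE.false ((inv (b ∣_ (⟨{y}ᶜ, hy.isOpen_compl⟩ : Z.Opens))) ⟨genericPoint Z, hne⟩).1
    haveI := hintY
    haveI : IsLocallyNoetherian Y := LocallyOfFiniteType.isLocallyNoetherian b
    haveI : CompactSpace Y := QuasiCompact.compactSpace_of_compactSpace b
    refine ⟨inferInstance, {}, fun w => PointBlow.regular_of_regular hy hbl hdim w (hregZ _), ?_, inferInstance,
      fun h => sol_blowUp hy hbl hdim hbiso hregZ (hsol h)⟩
    rw [Scheme.Hom.stalkMap_comp]
    haveI := hbiso
    haveI : IsIso (r.stalkMap (b (genericPoint Y))) := by rw [SurfSeq.map_generic b hbiso]; exact hrbir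
    infer_instance

end Groth.Agent.Sol
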