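import Mathlib
import Groth.Agent.Sol.Seq
import Groth.Agent.PointDom.Global

/-!
# Normal modifications of regular surfaces have no first cohomology
-/

set_option autoImplicit false
set_option linter.style.haveILetI false
set_option linter.unusedSectionVars false
set_option backward.isDefEq.respectTransparency false
set_option backward.isDefEq.respectTransparency.types false
set_option maxHeartbeats 400000

universe u

open CategoryTheory CategoryTheory.Limits AlgebraicGeometry TopologicalSpace Filter IsLocalRing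
open Groth.Agent.FibrePP (O)
open Groth.Agent.NormSeq (Model locRing)

noncomputable section

namespace Groth.Agent.Sol

/-- A proper birational morphism is an isomorphism over an open with iso stalks. -/
theorem isIso_restrict_of_stalk {X Y : Scheme.{u}} [IsIntegral X] [IsIntegral Y] (f : X ⟶ Y) [IsProper f]
    (hbir : IsIso (f.stalkMap (genericPoint X))) (U : Y.Opens) (hU : (U : Set Y).Nonempty)
    (h : ∀ x, f x ∈ U → IsIso (f.stalkMap x)) : IsIso (f ∣_ U) := by
  haveI : Nonempty U := hU.to_subtype
  have hgU : genericPoint X ∈ f ⁻¹ᵁ U := by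
    show f (genericPoint X) ∈ U
    rw [SurfSeq.map_generic f hbir]
    exact ((genericPoint_spec Y).mem_open_set_iff U.isOpen).2 (by rwa [Set.univ_inter])
  haveI : Nonempty (f ⁻¹ᵁ U) := ⟨⟨_, hgU⟩⟩
  haveI : IsIntegral (f ⁻¹ᵁ U : Scheme) := isIntegral_of_isOpenImmersion (f ⁻¹ᵁ U).ι
  haveI : IsIntegral (U : Scheme) := isIntegral_of_isOpenImmersion U.ι
  haveI : IsProper (f ∣_ U) := MorphismProperty.of_isPullback (isPullback_morphismRestrict f U).flip ‹_›
  have hst : ∀ x : ↥(f ⁻¹ᵁ U), IsIso ((f ∣_ U).stalkMap x) := fun x =>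
    ((MorphismProperty.isomorphisms CommRingCat).arrow_mk_iso_iff (morphismRestrictStalkMap f U x)).2 (h x.1 x.2)
  haveI : IsLocalIso (f ∣_ U) := ⟨fun x => PurBir.exists_isOpenImmersion_of_isIso_stalkMap _ (hst x)⟩
  obtain ⟨W, hW, hOI⟩ := SurfSeq.exists_open (f ∣_ U) (hst _)
  haveI := hOI
  haveI := PurBir.isOpenImmersion_of_isLocalIso (f ∣_ U) hW
  haveI : Surjective (f ∣_ U) := ⟨fun y => (f ∣_ U).isClosedMap.isClosed_range.closure_subset_iff.2
    (Set.singleton_subset_iff.2 ⟨_, SurfSeq.map_generic (f ∣_ U) (hst _)⟩) (by rw [(genericPoint_spec _).def]; trivial)⟩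
  exact (isIso_iff_isOpenImmersion_and_surjective _).2 ⟨inferInstance, inferInstance⟩

/-- Normal modifications of a regular surface with solvable data have solvable data. -/
theorem sol_of_modification {S X : Scheme.{u}} [IsIntegral S] [IsNoetherian S] [IsIntegral X]
    (hreg : ∀ s : S, IsRegularLocalRing (S.presheaf.stalk s)) (f : X ⟶ S) [IsProper f]
    (hbir : IsIso (f.stalkMap (genericPoint X))) (hn : ∀ x : X, IsIntegrallyClosed (X.presheaf.stalk x))
    (T : Set S) (hTf : T.Finite) (hTc : IsClosed T) (hTne : genericPoint S ∉ T)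
    (hT : ∀ t ∈ T, IsClosed ({t} : Set S) ∧ ringKrullDim (S.presheaf.stalk t) = 2)
    (hd : ∀ s ∉ T, ringKrullDim (S.presheaf.stalk s) ≤ 1)
    (h : Sol (O (X := S))) : Sol (O (X := X)) := by
  haveI hiso : IsIso (f ∣_ (⟨Tᶜ, hTc.isOpen_compl⟩ : S.Opens)) :=
    isIso_restrict_of_stalk f hbir _ ⟨_, hTne⟩ fun x hx => SurfSeq.isIso_of_dim_le_one f hbir hreg x (hd _ hx)
  obtain ⟨X', g, hg, -, k, hk⟩ := PointDom.exists_domination T hTf hTc
    (fun t ht => ⟨(hT t ht).1, hreg t, (hT t ht).2⟩) f hiso
  obtain ⟨hint, hN, -, hgbir, hgP, hsol⟩ := of_seq hg hreg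
  haveI := hint
  haveI := hgP
  haveI : IsProper (k ≫ f) := hk.symm ▸ hgP
  haveI : IsProper k := IsProper.of_comp k f
  have hkgen : k (genericPoint X') = genericPoint X := by
    have h1 : f (k (genericPoint X')) = genericPoint S := by
      rw [← Scheme.Hom.comp_apply, hk, SurfSeq.map_generic g hgbir]
    have h2 : IsIso (f.stalkMap (k (genericPoint X'))) :=
      SurfSeq.isIso_of_dim_le_one f hbir hreg _ (hd _ (h1 ▸ hTne))
    exact SurfSeq.eq_of_isIso f hbir ((SurfSeq.map_generic f hbir).trans h1.symm).symm h2 |>.symm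
  have hkbir : IsIso (k.stalkMap (genericPoint X')) := by
    haveI : IsIso ((k ≫ f).stalkMap (genericPoint X')) := by subst hk; exact hgbir
    haveI : IsIso (f.stalkMap (k (genericPoint X'))) := by rw [hkgen]; exact hbir
    have e := Scheme.Hom.stalkMap_comp k f (genericPoint X')
    haveI : IsIso (f.stalkMap (k (genericPoint X')) ≫ k.stalkMap (genericPoint X')) := e ▸ inferInstance
    exact IsIso.of_isIso_comp_left (f.stalkMap (k (genericPoint X'))) _
  let M : Model X := { Z := X', G := k, gen := hkgen, bir := hkbir }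
  haveI : IsProper M.G := ‹IsProper k›
  refine Sol.push (R := O (X := X)) (R' := locRing M) M.G M.G.continuous (O_le M) (fun x c hc => ?_)
    ((sol_locRing_iff M).2 (hsol h))
  haveI := hn x
  exact mem_O_of_forall M x c hc

end Groth.Agent.Sol
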