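import Mathlib
import Groth.Agent.Sol.HH
import Groth.Agent.QCoh.GodHH
import Groth.Agent.QCoh.Bound
import Groth.Agent.QCoh.VanIdeal

/-!
# Classes of principal parts in the first cohomology of the structure sheaf

Every class of `H¹(X, O)` comes from a datum of principal parts, compatibly with sums and scalars, and
the class is zero exactly when the datum is solvable.
-/

set_option autoImplicit false
set_option linter.style.haveILetI false
set_option linter.unusedSectionVars false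
set_option backward.isDefEq.respectTransparency false
set_option backward.isDefEq.respectTransparency.types false
set_option maxHeartbeats 400000

universe u

open CategoryTheory CategoryTheory.Limits AlgebraicGeometry TopologicalSpace Filter Opposite
open scoped Topology
open Groth.Agent.FibrePP (O)
open Groth.Agent.QCoh (God godQ godπ toGod godVal germM stk godSES)

noncomputable section

namespace Groth.Agent.Sol

variable {X : Scheme.{u}} [IsIntegral X]

local notation "M₀" => Coh.structureModule X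

variable (X) in
/-- The class of a global section of the first Godement quotient. -/
def delta : Γ(godQ (Coh.structureModule X) 1, ⊤) →+ Coh.HH X (Coh.structureModule X) 1 :=
  AddMonoidHom.comp (QCoh.Ab.connecting (X := X.toPresheafedSpace.carrier)
      (QCoh.toAb_shortExact (QCoh.godSES_shortExact (Coh.structureModule X) 0)) 0)
    (Sheaf.H.equiv₀ (Coh.toAb (godQ (Coh.structureModule X) 1)) isTerminalTop).symm.toAddMonoidHom

theorem delta_surjective : Function.Surjective (delta X) :=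
  (QCoh.Ab.connecting_surjective (X := X.toPresheafedSpace.carrier)
      (QCoh.toAb_shortExact (QCoh.godSES_shortExact M₀ 0)) 0 (QCoh.subsingleton_HH_God (godQ M₀ 0) 0)).comp
    (Sheaf.H.equiv₀ (Coh.toAb (godQ M₀ 1)) isTerminalTop).symm.surjective

theorem delta_eq_zero_iff (q : Γ(godQ M₀ 1, ⊤)) :
    delta X q = 0 ↔ ∃ e, (godπ M₀ 0).app (⊤ : X.Opens) e = q := by
  refine (QCoh.Ab.connecting_eq_zero_iff (X := X.toPresheafedSpace.carrier)
    (QCoh.toAb_shortExact (QCoh.godSES_shortExact M₀ 0)) 0 _).trans ⟨?_, ?_⟩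
  · rintro ⟨y, hy⟩
    refine ⟨Sheaf.H.equiv₀ (Coh.toAb (God (godQ M₀ 0))) isTerminalTop y, ?_⟩
    refine (Sheaf.H.equiv₀_naturality isTerminalTop ((godSES M₀ 0).map (QCoh.toAbFunctor X)).g y).trans ?_
    exact (congrArg (Sheaf.H.equiv₀ (Coh.toAb (godQ M₀ 1)) isTerminalTop) hy).trans
      ((Sheaf.H.equiv₀ (Coh.toAb (godQ M₀ 1)) isTerminalTop).apply_symm_apply q)
  · rintro ⟨s, hs⟩
    refine ⟨(Sheaf.H.equiv₀ (Coh.toAb (God (godQ M₀ 0))) isTerminalTop).symm s,
      (Sheaf.H.equiv₀ (Coh.toAb (godQ M₀ 1)) isTerminalTop).injective ?_⟩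
    refine (Sheaf.H.equiv₀_naturality isTerminalTop ((godSES M₀ 0).map (QCoh.toAbFunctor X)).g _).symm.trans ?_
    refine (congrArg _ ((Sheaf.H.equiv₀ (Coh.toAb (God (godQ M₀ 0))) isTerminalTop).apply_symm_apply s)).trans ?_
    exact hs.trans ((Sheaf.H.equiv₀ (Coh.toAb (godQ M₀ 1)) isTerminalTop).apply_symm_apply q).symm

/-- A section represented by principal parts: local lifts have values a constant minus the parts. -/
def IsRep (g : X → X.functionField) (q : Γ(godQ (Coh.structureModule X) 1, ⊤)) : Prop :=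
  ∀ p : X, ∃ (W : X.Opens) (_ : p ∈ W) (s : Γ(God (godQ (Coh.structureModule X) 0), W)),
    (godπ (Coh.structureModule X) 0).app W s =
      (godQ (Coh.structureModule X) 1).presheaf.map (homOfLE le_top).op q ∧
    ∃ d, ∀ y (hy : y ∈ W), val y (godVal (M := Coh.structureModule X) s y hy) = d - g y

/-- Changing the parts by local elements and a constant does not matter. -/
theorem IsRep.congr {g : X → X.functionField} {q : Γ(godQ M₀ 1, ⊤)} (h : IsRep g q) (k : X.functionField) :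
    IsRep (fun y => g y + k) q := fun p => by
  obtain ⟨W, hp, s, hs, d, hd⟩ := h p
  exact ⟨W, hp, s, hs, d + k, fun y hy => by rw [hd y hy]; ring⟩

theorem map_map_res {U V : X.Opens} (i : V ⟶ U) (M : X.Modules) (q : Γ(M, ⊤)) :
    M.presheaf.map i.op (M.presheaf.map (homOfLE (le_top : U ≤ ⊤)).op q) =
      M.presheaf.map (homOfLE (le_top : V ≤ ⊤)).op q := by
  rw [← CategoryTheory.comp_apply, ← Functor.map_comp]
  rfl

theorem IsRep.unique {g : X → X.functionField} {q q' : Γ(godQ M₀ 1, ⊤)} (h : IsRep g q) (h' : IsRep g q') :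
    q = q' := by
  choose W hW s hs d hd using h
  choose W' hW' s' hs' d' hd' using h'
  refine TopCat.Sheaf.eq_of_locally_eq' (⟨(godQ M₀ 1).presheaf, (godQ M₀ 1).isSheaf⟩ :
    TopCat.Sheaf AddCommGrpCat.{u} X.toPresheafedSpace.carrier) (fun p => W p ⊓ W' p) ⊤ (fun p => homOfLE le_top)
    (fun p _ => Opens.mem_iSup.2 ⟨p, hW p, hW' p⟩) _ _ fun p => ?_
  have hmem : p ∈ W p ⊓ W' p := ⟨hW p, hW' p⟩
  let a := (God (godQ M₀ 0)).presheaf.map (homOfLE inf_le_left : W p ⊓ W' p ⟶ W p).op (s p)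
  let b := (God (godQ M₀ 0)).presheaf.map (homOfLE inf_le_right : W p ⊓ W' p ⟶ W' p).op (s' p)
  obtain ⟨t, ht⟩ := exists_section_of_mem (W p ⊓ W' p) hmem (d p - d' p) fun y hy => by
    have e : d p - d' p = val y (godVal (M := M₀) (s p) y hy.1) - val y (godVal (M := M₀) (s' p) y hy.2) := by
      rw [hd p y hy.1, hd' p y hy.2]; ring
    rw [e]
    exact sub_mem (val_mem y _) (val_mem y _)
  have hab : a - b = (toGod (godQ M₀ 0)).app (W p ⊓ W' p) (show Γ(godQ M₀ 0, W p ⊓ W' p) from t) := by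
    refine QCoh.god_ext fun y hy => val_injective y ?_
    show val y (godVal (M := M₀) (s p) y hy.1 - godVal (M := M₀) (s' p) y hy.2) =
      val y (germM M₀ (W p ⊓ W' p) hy t)
    rw [map_sub, val_germM hy t, show toFF (W p ⊓ W' p) hy t = toFF (W p ⊓ W' p) hmem t from rfl, ht, hd p y hy.1,
      hd' p y hy.2]
    ring
  have h0 : (godπ M₀ 0).app (W p ⊓ W' p) a = (godπ M₀ 0).app (W p ⊓ W' p) b := by
    rw [← sub_eq_zero, ← map_sub, hab]
    exact QCoh.app_g_f (S := godSES M₀ 0) (W p ⊓ W' p) _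
  simp only [a, b] at h0
  rw [app_map, app_map, hs, hs', map_map_res, map_map_res] at h0
  exact h0

theorem exists_isRep {g : X → X.functionField} (hg : IsDatum (O (X := X)) g) :
    ∃ q : Γ(godQ M₀ 1, ⊤), IsRep g q := by
  classical
  have hloc : ∀ x : X, ∃ W : X.Opens, x ∈ W ∧ ∀ y ∈ W, g x - g y ∈ O y := fun x => by
    obtain ⟨W, hW, hWo, hxW⟩ := eventually_nhds_iff.1 (hg x)
    exact ⟨⟨W, hWo⟩, hxW, fun y hy => hW y hy⟩
  choose W hxW hW using hloc
  choose m hm using fun p y (hy : y ∈ W p) => exists_val y (hW p y hy)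
  let s : ∀ p, Γ(God (godQ M₀ 0), W p) := fun p => (fun y : W p => m p y.1 y.2 : ∀ y : W p, stk M₀ y.1)
  have hcompat : TopCat.Presheaf.IsCompatible (godQ M₀ 1).presheaf W fun p => (godπ M₀ 0).app (W p) (s p) := by
    intro p p'
    refine Eq.trans (app_map _ _ _).symm (Eq.trans ?_ (app_map _ _ _))
    rw [← sub_eq_zero, ← map_sub]
    have hmem : genericPoint X ∈ W p ⊓ W p' :=
      ⟨(genericPoint_specializes p).mem_open (W p).isOpen (hxW p),
        (genericPoint_specializes p').mem_open (W p').isOpen (hxW p')⟩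
    obtain ⟨t, ht⟩ := exists_section_of_mem (W p ⊓ W p') hmem (g p - g p') fun y hy => by
      rw [← sub_sub_sub_cancel_right (g p) (g p') (g y)]
      exact sub_mem (hW p y hy.1) (hW p' y hy.2)
    refine Eq.trans (congrArg _ ?_) (QCoh.app_g_f (S := godSES M₀ 0) (W p ⊓ W p') (show Γ(godQ M₀ 0, W p ⊓ W p') from t))
    refine QCoh.god_ext fun y hy => val_injective y ?_
    show val y (m p y hy.1 - m p' y hy.2) = val y (germM M₀ (W p ⊓ W p') hy t)
    rw [map_sub, val_germM hy t, hm, hm, show toFF (W p ⊓ W p') hy t = toFF (W p ⊓ W p') hmem t from rfl, ht,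
      sub_sub_sub_cancel_right]
  obtain ⟨q, hq, -⟩ := TopCat.Sheaf.existsUnique_gluing' (⟨(godQ M₀ 1).presheaf, (godQ M₀ 1).isSheaf⟩ :
    TopCat.Sheaf AddCommGrpCat.{u} X.toPresheafedSpace.carrier) W ⊤ (fun p => homOfLE le_top)
    (fun p _ => Opens.mem_iSup.2 ⟨p, hxW p⟩) _ hcompat
  exact ⟨q, fun p => ⟨W p, hxW p, s p, (hq p).symm, g p, fun y hy => hm p y hy⟩⟩

theorem exists_datum (q : Γ(godQ M₀ 1, ⊤)) : ∃ g, IsDatum (O (X := X)) g ∧ IsRep g q := by
  have hlift : ∀ x : X, ∃ (W : X.Opens) (_ : x ∈ W) (s : Γ(God (godQ M₀ 0), W)),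
      (godπ M₀ 0).app W s = (godQ M₀ 1).presheaf.map (homOfLE le_top).op q := by
    intro x
    obtain ⟨W, hW, hxW, -⟩ := exists_isAffineOpen_mem_and_subset (x := x) (U := ⊤) trivial
    exact ⟨W, hxW, QCoh.godπ_app_surjective (QCoh.subsingleton_HU_of_isAffineOpen
      QCoh.isQCoh_structureModule hW 0) _⟩
  choose W hxW s hs using hlift
  let γ : ∀ p y, y ∈ W p → X.functionField := fun p y hy => val y (godVal (M := M₀) (s p) y hy)
  have hdiff : ∀ p p', ∃ c : X.functionField, ∀ y (hy : y ∈ W p) (hy' : y ∈ W p'), γ p y hy - γ p' y hy' = c := by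
    intro p p'
    have h0 : (godπ M₀ 0).app (W p ⊓ W p') ((God (godQ M₀ 0)).presheaf.map (homOfLE inf_le_left).op (s p) -
        (God (godQ M₀ 0)).presheaf.map (homOfLE inf_le_right).op (s p')) = 0 := by
      rw [map_sub, app_map, app_map, hs, hs, map_map_res, map_map_res]
      exact sub_eq_zero.2 rfl
    obtain ⟨a, ha⟩ := QCoh.exists_of_godπ_app_eq_zero 0 _ h0
    have hmem : genericPoint X ∈ W p ⊓ W p' :=
      ⟨(genericPoint_specializes p).mem_open (W p).isOpen (hxW p),
        (genericPoint_specializes p').mem_open (W p').isOpen (hxW p')⟩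
    refine ⟨toFF (W p ⊓ W p') hmem a, fun y hy hy' => ?_⟩
    have h1 := congrArg (fun z => val y (godVal (M := M₀) (U := W p ⊓ W p') z y ⟨hy, hy'⟩)) ha
    refine Eq.trans ?_ (h1.symm.trans (val_germM (U := W p ⊓ W p') ⟨hy, hy'⟩ a))
    exact (map_sub (val y) _ _).symm
  choose c hc using hdiff
  let p₀ := genericPoint X
  have hm : ∀ r, genericPoint X ∈ W r := fun r => (genericPoint_specializes r).mem_open (W r).isOpen (hxW r)
  have hcc : ∀ p p' p'', c p p' + c p' p'' = c p p'' := by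
    intro p p' p''
    rw [← hc p p' _ (hm p) (hm p'), ← hc p' p'' _ (hm p') (hm p''), ← hc p p'' _ (hm p) (hm p'')]
    abel
  have key : ∀ p y (hy : y ∈ W p), γ p y hy = c p p₀ - (c y p₀ - γ y y (hxW y)) := fun p y hy => by
    rw [← hcc p y p₀, ← hc p y y hy (hxW y)]
    ring
  refine ⟨fun y => c y p₀ - γ y y (hxW y), fun x => ?_, fun p => ⟨W p, hxW p, s p, hs p, c p p₀, key p⟩⟩
  filter_upwards [(W x).isOpen.mem_nhds (hxW x), openMem_O x _ (val_mem x (godVal (M := M₀) (s x) x (hxW x)))]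
    with y hy hy'
  have e : (c x p₀ - γ x x (hxW x)) - (c y p₀ - γ y y (hxW y)) = γ x y hy - γ x x (hxW x) := by
    rw [key x y hy]
    ring
  show (c x p₀ - γ x x (hxW x)) - (c y p₀ - γ y y (hxW y)) ∈ O y
  rw [e]
  exact sub_mem (val_mem y _) hy'

/-- The class vanishes exactly when the principal parts are solvable. -/
theorem IsRep.delta_eq_zero_iff {g : X → X.functionField} {q : Γ(godQ M₀ 1, ⊤)} (h : IsRep g q) :
    delta X q = 0 ↔ ∃ k, ∀ y, k - g y ∈ O y := by
  rw [Sol.delta_eq_zero_iff]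
  constructor
  · rintro ⟨e, he⟩
    choose W hW s hs d hd using h
    have hker : ∀ p, ∃ k : X.functionField, ∀ y (hy : y ∈ W p),
        k - g y = val y (godVal (M := M₀) e y trivial) := by
      intro p
      have h0 : (godπ M₀ 0).app (W p) (s p - (God (godQ M₀ 0)).presheaf.map (homOfLE le_top : W p ⟶ ⊤).op e) = 0 := by
        rw [map_sub, app_map, he]
        exact sub_eq_zero.2 (hs p)
      obtain ⟨t, ht⟩ := QCoh.exists_of_godπ_app_eq_zero 0 _ h0
      refine ⟨d p - toFF (W p) (hW p) t, fun y hy => ?_⟩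
      have h1 := congrArg (fun z => val y (godVal (M := M₀) z y hy)) ht
      have h2 : val y (godVal (M := M₀) (s p) y hy) - val y (godVal (M := M₀) e y trivial) = toFF (W p) hy t :=
        (map_sub (val y) _ _).symm.trans (h1.symm.trans (val_germM hy t))
      rw [hd p y hy] at h2
      rw [show toFF (W p) (hW p) t = toFF (W p) hy t from rfl]
      linear_combination h2
    choose k hk using hker
    refine ⟨k (genericPoint X), fun y => ?_⟩
    have hm' : ∀ r, genericPoint X ∈ W r := fun r => (genericPoint_specializes r).mem_open (W r).isOpen (hW r)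
    have e1 := (hk (genericPoint X) _ (hm' _)).trans (hk y _ (hm' y)).symm
    have e2 := hk y y (hW y)
    rw [show k (genericPoint X) = k y from sub_left_injective e1, e2]
    exact val_mem y _
  · rintro ⟨k, hk⟩
    choose m hm using fun y => exists_val y (hk y)
    let e : Γ(God (godQ M₀ 0), ⊤) := (fun y : (⊤ : X.Opens) => m y.1 : ∀ y : (⊤ : X.Opens), stk M₀ y.1)
    refine ⟨e, IsRep.unique (g := g) (fun p => ⟨⊤, trivial, e, ?_, k, fun y _ => hm y⟩) h⟩
    exact (congr($((godQ M₀ 1).presheaf.map_id (op (⊤ : X.Opens))) ((godπ M₀ 0).app ⊤ e))).symm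

theorem IsRep.add {g g' : X → X.functionField} {q q' : Γ(godQ M₀ 1, ⊤)} (h : IsRep g q) (h' : IsRep g' q') :
    IsRep (fun y => g y + g' y) (q + q') := fun p => by
  obtain ⟨W, hp, s, hs, d, hd⟩ := h p
  obtain ⟨W', hp', s', hs', d', hd'⟩ := h' p
  refine ⟨W ⊓ W', ⟨hp, hp'⟩, (God (godQ M₀ 0)).presheaf.map (homOfLE inf_le_left : W ⊓ W' ⟶ W).op s +
    (God (godQ M₀ 0)).presheaf.map (homOfLE inf_le_right : W ⊓ W' ⟶ W').op s', ?_, d + d', fun y hy => ?_⟩
  · rw [map_add, app_map, app_map, hs, hs', map_map_res, map_map_res, map_add]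
  · show val y (godVal (M := M₀) s y hy.1 + godVal (M := M₀) s' y hy.2) = _
    rw [map_add, hd y hy.1, hd' y hy.2]
    ring

theorem IsRep.neg {g : X → X.functionField} {q : Γ(godQ M₀ 1, ⊤)} (h : IsRep g q) :
    IsRep (fun y => - g y) (-q) := fun p => by
  obtain ⟨W, hp, s, hs, d, hd⟩ := h p
  refine ⟨W, hp, -s, by rw [map_neg, map_neg, hs], -d, fun y hy => ?_⟩
  show val y (- godVal (M := M₀) s y hy) = _
  rw [map_neg, hd y hy]
  ring

theorem val_smul {y : X} {W : X.Opens} (hy : y ∈ W) (r : Γ(X, W)) (m : stk M₀ y) :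
    val y (X.presheaf.germ W y hy r • m) = toFF W hy r * val y m := by
  obtain ⟨U, hyU, t, rfl⟩ := QCoh.exists_germM M₀ m
  have h1 : X.presheaf.germ W y hy r = X.presheaf.germ (W ⊓ U) y ⟨hy, hyU⟩
      (X.presheaf.map (homOfLE inf_le_left).op r) :=
    (X.presheaf.germ_res_apply (homOfLE inf_le_left) y (⟨hy, hyU⟩ : y ∈ W ⊓ U) r).symm
  have h2 : germM M₀ U hyU t = germM M₀ (W ⊓ U) ⟨hy, hyU⟩ ((M₀).presheaf.map (homOfLE inf_le_right).op t) :=
    (QCoh.germM_res M₀ (homOfLE inf_le_right) (⟨hy, hyU⟩ : y ∈ W ⊓ U) t).symm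
  rw [h1, h2, ← QCoh.germM_smul, val_germM, val_germM]
  exact (map_mul (toFF (W ⊓ U) ⟨hy, hyU⟩) _ _).trans (congrArg (· * _) (toFF_res inf_le_left ⟨hy, hyU⟩ r))

variable {A : Type u} [CommRing A] (ρ : A →+* Coh.Γtop X)

/-- Scalars in the function field. -/
def scal : A →+* X.functionField := RingHom.comp (toFF (⊤ : X.Opens) (x := genericPoint X) trivial) ρ

theorem scal_mem (a : A) (y : X) : scal ρ a ∈ O y :=
  toFF_mem (⊤ : X.Opens) (x := genericPoint X) trivial trivial _

theorem IsRep.smul {g : X → X.functionField} {q : Γ(godQ M₀ 1, ⊤)} (h : IsRep g q) (a : A) :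
    letI := QCoh.secModule ρ (godQ M₀ 1) ⊤
    IsRep (fun y => scal ρ a * g y) (a • q) := fun p => by
  let := QCoh.secModule ρ (godQ M₀ 1) ⊤
  obtain ⟨W, hp, s, hs, d, hd⟩ := h p
  let r : Γ(X, W) := X.presheaf.map (homOfLE le_top).op (ρ a)
  refine ⟨W, hp, r • s, ?_, scal ρ a * d, fun y hy => ?_⟩
  · rw [Scheme.Modules.Hom.app_smul, hs]
    show r • _ = (godQ M₀ 1).presheaf.map (homOfLE le_top).op
      ((X.presheaf.map (homOfLE (le_top : (⊤ : X.Opens) ≤ ⊤)).op (ρ a)) • q)
    rw [Scheme.Modules.map_smul, ← CategoryTheory.comp_apply, ← Functor.map_comp]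
    rfl
  · show val y (X.presheaf.germ W y hy r • godVal (M := M₀) s y hy) = _
    rw [val_smul, hd y hy, show toFF W hy r = scal ρ a from toFF_res le_top hy _]
    ring

theorem delta_smul (a : A) (q : Γ(godQ M₀ 1, ⊤)) :
    letI := QCoh.secModule ρ (godQ M₀ 1) ⊤
    letI := QCoh.modHH ρ M₀ 1
    delta X (a • q) = a • delta X q := by
  let := QCoh.secModule ρ (godQ M₀ 1) ⊤
  let := QCoh.modHH ρ (godQ M₀ 1) 0
  let := QCoh.modHH ρ M₀ 1
  let := QCoh.modHH ρ (godSES M₀ 0).X₁ (0 + 1)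
  exact ((QCoh.connLin ρ (QCoh.godSES_shortExact M₀ 0) 0).comp (QCoh.secH ρ (godQ M₀ 1)).toLinearMap).map_smul a q

/-- A datum of principal parts with the given class. -/
def IsCls (g : X → X.functionField) (z : Coh.HH X (Coh.structureModule X) 1) : Prop :=
  IsDatum (O (X := X)) g ∧ ∃ q, IsRep g q ∧ delta X q = z

theorem exists_isCls (z : Coh.HH X M₀ 1) : ∃ g, IsCls g z := by
  obtain ⟨q, rfl⟩ := delta_surjective z
  obtain ⟨g, hg, hq⟩ := exists_datum q
  exact ⟨g, hg, q, hq, rfl⟩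

theorem isCls_of_datum {g : X → X.functionField} (hg : IsDatum (O (X := X)) g) :
    ∃ z, IsCls g z := by
  obtain ⟨q, hq⟩ := exists_isRep hg
  exact ⟨_, hg, q, hq, rfl⟩

theorem IsCls.unique {g : X → X.functionField} {z z' : Coh.HH X M₀ 1} (h : IsCls g z) (h' : IsCls g z') :
    z = z' := by
  obtain ⟨q, hq, rfl⟩ := h.2
  obtain ⟨q', hq', rfl⟩ := h'.2
  rw [hq.unique hq']

theorem IsCls.eq_zero_iff {g : X → X.functionField} {z : Coh.HH X M₀ 1} (h : IsCls g z) :
    z = 0 ↔ ∃ k, ∀ y, k - g y ∈ O y := by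
  obtain ⟨q, hq, rfl⟩ := h.2
  exact hq.delta_eq_zero_iff

theorem IsCls.congr {g : X → X.functionField} {z : Coh.HH X M₀ 1} (h : IsCls g z) (k : X.functionField) :
    IsCls (fun y => g y + k) z := by
  obtain ⟨q, hq, rfl⟩ := h.2
  refine ⟨fun x => (h.1 x).mono fun y hy => ?_, q, hq.congr k, rfl⟩
  show g x + k - (g y + k) ∈ O y
  rw [add_sub_add_right_eq_sub]
  exact hy

theorem IsCls.add {g g' : X → X.functionField} {z z' : Coh.HH X M₀ 1} (h : IsCls g z) (h' : IsCls g' z') :
    IsCls (fun y => g y + g' y) (z + z') := by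
  obtain ⟨q, hq, rfl⟩ := h.2
  obtain ⟨q', hq', rfl⟩ := h'.2
  refine ⟨fun x => ((h.1 x).and (h'.1 x)).mono fun y hy => ?_, q + q', hq.add hq', map_add _ _ _⟩
  show g x + g' x - (g y + g' y) ∈ O y
  rw [add_sub_add_comm]
  exact add_mem hy.1 hy.2

theorem IsCls.neg {g : X → X.functionField} {z : Coh.HH X M₀ 1} (h : IsCls g z) :
    IsCls (fun y => - g y) (-z) := by
  obtain ⟨q, hq, rfl⟩ := h.2
  refine ⟨fun x => (h.1 x).mono fun y hy => ?_, -q, hq.neg, map_neg _ _⟩
  show -g x - -g y ∈ O y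
  rw [← neg_sub']
  exact neg_mem hy

/-- Classes with the same datum up to a constant agree. -/
theorem IsCls.eq_of_sub {g g' : X → X.functionField} {z z' : Coh.HH X M₀ 1} (h : IsCls g z) (h' : IsCls g' z')
    (k : X.functionField) (hk : ∀ y, k - (g y - g' y) ∈ O y) : z = z' := by
  have h1 : IsCls (fun y => g y + -g' y) (z + -z') := h.add h'.neg
  exact add_neg_eq_zero.1 (h1.eq_zero_iff.2 ⟨k, fun y => by rw [← sub_eq_add_neg]; exact hk y⟩)

theorem IsCls.smul {g : X → X.functionField} {z : Coh.HH X M₀ 1} (h : IsCls g z) (a : A) :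
    letI := QCoh.modHH ρ M₀ 1
    IsCls (fun y => scal ρ a * g y) (a • z) := by
  let := QCoh.secModule ρ (godQ M₀ 1) ⊤
  let := QCoh.modHH ρ M₀ 1
  obtain ⟨q, hq, rfl⟩ := h.2
  refine ⟨fun x => (h.1 x).mono fun y hy => ?_, a • q, hq.smul ρ a, delta_smul ρ a q⟩
  show scal ρ a * g x - scal ρ a * g y ∈ O y
  rw [← mul_sub]
  exact mul_mem (scal_mem ρ a y) hy

end Groth.Agent.Sol
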