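import Mathlib
import Groth.Agent.Sol.HH
import Groth.Agent.QCoh.GodHH
import Groth.Agent.QCoh.Bound
import Groth.Agent.QCoh.VanIdeal

/-!
# Multiples killing the first cohomology of the structure sheaf
-/

set_option autoImplicit false
set_option linter.style.haveILetI false
set_option linter.unusedSectionVars false
set_option backward.isDefEq.respectTransparency false
set_option backward.isDefEq.respectTransparency.types false
set_option maxHeartbeats 400000

universe u

open CategoryTheory CategoryTheory.Limits AlgebraicGeometry TopologicalSpace Filter Opposite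
open scoped Topology
open Groth.Agent.FibrePP (O)
open Groth.Agent.QCoh (God godQ godπ toGod godVal germM stk godSES)

noncomputable section

namespace Groth.Agent.Sol

variable {X : Scheme.{u}}

variable [IsIntegral X]

local notation "M₀" => Coh.structureModule X

/-- Multiples of global sections of the first Godement quotient lift when the multiples of all data are solvable. -/
theorem exists_lift_nsmul (d : ℕ) (h : ∀ g, IsDatum (O (X := X)) g → ∃ a, ∀ x, a - (d : X.functionField) * g x ∈ O x)
    (q : Γ(godQ M₀ 1, ⊤)) : ∃ e, (godπ M₀ 0).app (⊤ : X.Opens) e = d • q := by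
  have hlift : ∀ x : X, ∃ (W : X.Opens) (_ : x ∈ W) (s : Γ(God (godQ M₀ 0), W)),
      (godπ M₀ 0).app W s = (godQ M₀ 1).presheaf.map (homOfLE le_top).op q := by
    intro x
    obtain ⟨W, hW, hxW, -⟩ := exists_isAffineOpen_mem_and_subset (x := x) (U := ⊤) trivial
    exact ⟨W, hxW, QCoh.godπ_app_surjective (QCoh.subsingleton_HU_of_isAffineOpen
      QCoh.isQCoh_structureModule hW 0) _⟩
  choose W hxW s hs using hlift
  let γ : ∀ p y, y ∈ W p → X.functionField := fun p y hy => val y (godVal (M := M₀) (s p) y hy)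
  have hdiff : ∀ p p', ∃ c : X.functionField, ∀ y (hy : y ∈ W p) (hy' : y ∈ W p'), γ p y hy - γ p' y hy' = c := by
    intro p p'
    have h0 : (godπ M₀ 0).app (W p ⊓ W p') ((God (godQ M₀ 0)).presheaf.map (homOfLE inf_le_left).op (s p) -
        (God (godQ M₀ 0)).presheaf.map (homOfLE inf_le_right).op (s p')) = 0 := by
      rw [map_sub, app_map, app_map, hs, hs, ← CategoryTheory.comp_apply, ← Functor.map_comp,
        ← CategoryTheory.comp_apply, ← Functor.map_comp]
      exact sub_eq_zero.2 rfl
    obtain ⟨a, ha⟩ := QCoh.exists_of_godπ_app_eq_zero 0 _ h0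
    have hmem : genericPoint X ∈ W p ⊓ W p' :=
      ⟨(genericPoint_specializes p).mem_open (W p).isOpen (hxW p),
        (genericPoint_specializes p').mem_open (W p').isOpen (hxW p')⟩
    refine ⟨toFF (W p ⊓ W p') hmem a, fun y hy hy' => ?_⟩
    have h1 := congrArg (fun z => val y (godVal (M := M₀) (U := W p ⊓ W p') z y ⟨hy, hy'⟩)) ha
    refine Eq.trans ?_ (h1.symm.trans (val_germM (U := W p ⊓ W p') ⟨hy, hy'⟩ a))
    exact (map_sub (val y) _ _).symm
  choose c hc using hdiff
  let p₀ := genericPoint X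
  have hcc : ∀ p p' p'', c p p' + c p' p'' = c p p'' := by
    intro p p' p''
    have hm : ∀ r, genericPoint X ∈ W r := fun r => (genericPoint_specializes r).mem_open (W r).isOpen (hxW r)
    rw [← hc p p' _ (hm p) (hm p'), ← hc p' p'' _ (hm p') (hm p''), ← hc p p'' _ (hm p) (hm p'')]
    abel
  obtain ⟨a, ha⟩ := h (fun x => c x p₀) fun x => by
    filter_upwards [(W x).isOpen.mem_nhds (hxW x)] with y hy
    rw [← hcc x y p₀, add_sub_cancel_right, ← hc x y y hy (hxW y)]
    exact sub_mem (val_mem y _) (val_mem y _)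
  have hval : ∀ y, (d : X.functionField) * γ y y (hxW y) - ((d : X.functionField) * c y p₀ - a) ∈ O y := fun y => by
    rw [sub_sub_eq_add_sub, add_sub_assoc]
    exact add_mem (mul_mem (natCast_mem _ d) (val_mem y _)) (ha y)
  choose e he using fun y => exists_val y (hval y)
  refine ⟨(fun y : (⊤ : X.Opens) => e y.1 : ∀ y : (⊤ : X.Opens), stk M₀ y.1), ?_⟩
  refine TopCat.Sheaf.eq_of_locally_eq' (⟨(godQ M₀ 1).presheaf, (godQ M₀ 1).isSheaf⟩ :
    TopCat.Sheaf AddCommGrpCat.{u} X.toPresheafedSpace.carrier) W ⊤ (fun p => homOfLE le_top)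
    (fun p _ => Opens.mem_iSup.2 ⟨p, hxW p⟩) _ _ fun p => ?_
  have hsd : (godπ M₀ 0).app (W p) (d • s p) = (godQ M₀ 1).presheaf.map (homOfLE le_top).op (d • q) := by
    rw [map_nsmul, map_nsmul, hs]
  refine Eq.trans ?_ hsd
  erw [← app_map]
  -- the difference is a section of the structure sheaf
  obtain ⟨t, ht⟩ := exists_section_of_mem (W p) (hxW p) ((d : X.functionField) * c p p₀ - a) fun y hy => by
    rw [← hcc p y p₀, mul_add, add_sub_assoc, ← hc p y y hy (hxW y)]
    exact add_mem (mul_mem (natCast_mem _ d) (sub_mem (val_mem y _) (val_mem y _)))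
      (by simpa using neg_mem (ha y))
  have hdecomp : (God (godQ M₀ 0)).presheaf.map (homOfLE le_top : W p ⟶ ⊤).op
      (show Γ(God (godQ M₀ 0), ⊤) from fun y : (⊤ : X.Opens) => e y.1) =
      d • s p - (toGod (godQ M₀ 0)).app (W p) (show Γ(godQ M₀ 0, W p) from t) := by
    refine QCoh.god_ext fun y hy => val_injective y ?_
    show val y (e y) = val y (d • godVal (M := M₀) (s p) y hy - germM M₀ (W p) hy t)
    rw [map_sub, map_nsmul, val_germM hy t, he y]
    rw [show toFF (W p) hy t = toFF (W p) (hxW p) t from rfl, ht, ← hcc p y p₀, ← hc p y y hy (hxW y), nsmul_eq_mul]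
    show _ = (d : X.functionField) * γ p y hy - _
    ring
  erw [hdecomp, map_sub]
  rw [show (godπ M₀ 0).app (W p) ((toGod (godQ M₀ 0)).app (W p) (show Γ(godQ M₀ 0, W p) from t)) = 0 from
    QCoh.app_g_f (S := godSES M₀ 0) (W p) _, sub_zero]

/-- A multiple kills the first cohomology when the multiples of all data are solvable. -/
theorem nsmul_eq_zero_of_sol (d : ℕ)
    (h : ∀ g, IsDatum (O (X := X)) g → ∃ a, ∀ x, a - (d : X.functionField) * g x ∈ O x)
    (z : Coh.HH X M₀ 1) : d • z = 0 := by
  have hS := QCoh.toAb_shortExact (QCoh.godSES_shortExact M₀ 0)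
  obtain ⟨y, rfl⟩ := QCoh.Ab.connecting_surjective (X := X.toPresheafedSpace.carrier) hS 0
    (QCoh.subsingleton_HH_God (godQ M₀ 0) 0) z
  obtain ⟨s, hs⟩ := exists_lift_nsmul d h (Sheaf.H.equiv₀ (Coh.toAb (godQ M₀ 1)) isTerminalTop y)
  refine (map_nsmul (QCoh.Ab.connecting (X := X.toPresheafedSpace.carrier) hS 0) d y).symm.trans ?_
  refine (QCoh.Ab.connecting_eq_zero_iff (X := X.toPresheafedSpace.carrier) hS 0 _).2
    ⟨(Sheaf.H.equiv₀ (Coh.toAb (God (godQ M₀ 0))) isTerminalTop).symm s,
      (Sheaf.H.equiv₀ (Coh.toAb (godQ M₀ 1)) isTerminalTop).injective ?_⟩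
  refine (Sheaf.H.equiv₀_naturality isTerminalTop ((godSES M₀ 0).map (QCoh.toAbFunctor X)).g _).symm.trans ?_
  refine (congrArg _ ((Sheaf.H.equiv₀ (Coh.toAb (God (godQ M₀ 0))) isTerminalTop).apply_symm_apply s)).trans ?_
  exact hs.trans (map_nsmul _ d y).symm

end Groth.Agent.Sol
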